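import Mathlib
import Cfsg.Agent.Helper58.Marggraf
import Cfsg.Agent.Helper60.Marg.Defs

set_option autoImplicit false

namespace Cfsg.Agent.Helper52.Marg

open Cfsg.Agent.Helper60.Marg Cfsg.Agent.Helper58 MulAction

section comb

variable {Ω : Type*} [DecidableEq Ω]

/-- the `t`-subsets of a `(t+1)`-set are the `Q.erase q` -/
theorem powersetCard_eq_image_erase (Q : Finset Ω) (t : ℕ) (hQ : Q.card = t + 1) :
    Q.powersetCard t = Q.image (fun q => Q.erase q) := by
  ext X
  simp only [Finset.mem_powersetCard, Finset.mem_image]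
  constructor
  · rintro ⟨hXQ, hX⟩
    have hc : (Q \ X).card = 1 := by
      rw [Finset.card_sdiff_of_subset hXQ, hQ, hX]; omega
    obtain ⟨q, hq⟩ := Finset.card_eq_one.mp hc
    have hqQ : q ∈ Q := by
      have : q ∈ Q \ X := by rw [hq]; exact Finset.mem_singleton_self q
      exact (Finset.mem_sdiff.mp this).1
    refine ⟨q, hqQ, ?_⟩
    ext z
    simp only [Finset.mem_erase]
    constructor
    · rintro ⟨hzq, hzQ⟩
      by_contra hzX
      have : z ∈ Q \ X := Finset.mem_sdiff.mpr ⟨hzQ, hzX⟩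
      rw [hq] at this
      exact hzq (Finset.mem_singleton.mp this)
    · intro hzX
      refine ⟨?_, hXQ hzX⟩
      rintro rfl
      have : z ∈ Q \ X := by rw [hq]; exact Finset.mem_singleton_self z
      exact (Finset.mem_sdiff.mp this).2 hzX
  · rintro ⟨q, hqQ, rfl⟩
    refine ⟨Finset.erase_subset _ _, ?_⟩
    rw [Finset.card_erase_of_mem hqQ, hQ]; rfl

theorem erase_injOn (Q : Finset Ω) :
    Set.InjOn (fun q => Q.erase q) (Q : Set Ω) := by
  intro a ha b hb hab
  by_contra hne
  have : a ∈ Q.erase b := Finset.mem_erase.mpr ⟨hne, ha⟩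
  have hab' : Q.erase a = Q.erase b := hab
  rw [← hab'] at this
  exact (Finset.notMem_erase a Q) this

/-- the number of `t`-subsets `X` of a `(t+1)`-set `Q` with `|X ∩ Δ| = j` -/
theorem card_filter_powersetCard_inter (Q Δ : Finset Ω) (t j : ℕ) (hQ : Q.card = t + 1) :
    ((Q.powersetCard t).filter (fun X => (X ∩ Δ).card = j)).card =
      if (Q ∩ Δ).card = j then t + 1 - j else if (Q ∩ Δ).card = j + 1 then j + 1 else 0 := by
  rw [powersetCard_eq_image_erase Q t hQ, Finset.filter_image,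
    Finset.card_image_of_injOn (fun a ha b hb hab =>
      erase_injOn Q (Finset.mem_filter.mp ha).1 (Finset.mem_filter.mp hb).1 hab)]
  have hcard : ∀ q ∈ Q, ((Q.erase q) ∩ Δ).card =
      if q ∈ Δ then (Q ∩ Δ).card - 1 else (Q ∩ Δ).card := by
    intro q hq
    have : (Q.erase q) ∩ Δ = (Q ∩ Δ).erase q := by
      ext z; simp only [Finset.mem_inter, Finset.mem_erase]; tauto
    rw [this]
    split_ifs with hqΔ
    · rw [Finset.card_erase_of_mem (Finset.mem_inter.mpr ⟨hq, hqΔ⟩)]
    · rw [Finset.erase_eq_of_notMem]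
      intro h; exact hqΔ (Finset.mem_inter.mp h).2
  have hpos : ∀ q ∈ Q, q ∈ Δ → 1 ≤ (Q ∩ Δ).card := by
    intro q hq hqΔ
    exact Finset.card_pos.mpr ⟨q, Finset.mem_inter.mpr ⟨hq, hqΔ⟩⟩
  split_ifs with h1 h2
  · -- `|Q ∩ Δ| = j`: exactly the `q ∉ Δ`
    have : Q.filter (fun q => ((Q.erase q) ∩ Δ).card = j) = Q \ (Q ∩ Δ) := by
      ext q
      simp only [Finset.mem_filter, Finset.mem_sdiff, Finset.mem_inter]
      constructor
      · rintro ⟨hq, hc⟩
        refine ⟨hq, ?_⟩
        rintro ⟨-, hqΔ⟩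
        rw [hcard q hq, if_pos hqΔ] at hc
        have := hpos q hq hqΔ
        omega
      · rintro ⟨hq, hn⟩
        refine ⟨hq, ?_⟩
        have hqΔ : q ∉ Δ := fun h => hn ⟨hq, h⟩
        rw [hcard q hq, if_neg hqΔ, h1]
    rw [this, Finset.card_sdiff_of_subset Finset.inter_subset_left, hQ, h1]
  · -- `|Q ∩ Δ| = j + 1`: exactly the `q ∈ Δ`
    have : Q.filter (fun q => ((Q.erase q) ∩ Δ).card = j) = Q ∩ Δ := by
      ext q
      simp only [Finset.mem_filter, Finset.mem_inter]
      constructor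
      · rintro ⟨hq, hc⟩
        refine ⟨hq, ?_⟩
        by_contra hqΔ
        rw [hcard q hq, if_neg hqΔ] at hc
        omega
      · rintro ⟨hq, hqΔ⟩
        refine ⟨hq, ?_⟩
        rw [hcard q hq, if_pos hqΔ, h2]; rfl
    rw [this, h2]
  · -- otherwise nothing
    rw [Finset.card_eq_zero, Finset.filter_eq_empty_iff]
    intro q hq hc
    rw [hcard q hq] at hc
    split_ifs at hc with hqΔ
    · have := hpos q hq hqΔ
      omega
    · exact h1 hc

variable [Fintype Ω]

/-- the number of `t`-subsets of `Ω` meeting `Δ` in exactly `j` points -/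
theorem card_powersetCard_inter (Δ : Finset Ω) (t j : ℕ) (hj : j ≤ t) :
    ((Finset.univ.powersetCard t).filter (fun X : Finset Ω => (X ∩ Δ).card = j)).card =
      Δ.card.choose j * Δᶜ.card.choose (t - j) := by
  rw [← Finset.card_powersetCard j Δ, ← Finset.card_powersetCard (t - j) Δᶜ,
    ← Finset.card_product]
  refine Finset.card_nbij' (fun X => (X ∩ Δ, X \ Δ)) (fun p => p.1 ∪ p.2) ?_ ?_ ?_ ?_
  · intro X hX
    simp only [Finset.coe_filter, Finset.mem_powersetCard, Set.mem_ofPred_eq] at hX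
    obtain ⟨⟨-, hXt⟩, hXj⟩ := hX
    simp only [Finset.coe_product, Set.mem_prod, Finset.mem_coe, Finset.mem_powersetCard]
    refine ⟨⟨Finset.inter_subset_right, hXj⟩, ?_, ?_⟩
    · intro z hz
      have := (Finset.mem_sdiff.mp hz).2
      exact Finset.mem_compl.mpr this
    · have h := Finset.card_sdiff_add_card_inter X Δ
      omega
  · intro p hp
    simp only [Finset.coe_product, Set.mem_prod, Finset.mem_coe, Finset.mem_powersetCard] at hp
    obtain ⟨⟨h1s, h1c⟩, h2s, h2c⟩ := hp
    have hdisj : Disjoint p.1 p.2 := by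
      rw [Finset.disjoint_left]
      intro z hz1 hz2
      exact (Finset.mem_compl.mp (h2s hz2)) (h1s hz1)
    have hinter : (p.1 ∪ p.2) ∩ Δ = p.1 := by
      ext z
      simp only [Finset.mem_inter, Finset.mem_union]
      constructor
      · rintro ⟨h | h, hzΔ⟩
        · exact h
        · exact absurd hzΔ (Finset.mem_compl.mp (h2s h))
      · intro h; exact ⟨Or.inl h, h1s h⟩
    simp only [Finset.coe_filter, Finset.mem_powersetCard, Set.mem_ofPred_eq]
    refine ⟨⟨Finset.subset_univ _, ?_⟩, ?_⟩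
    · rw [Finset.card_union_of_disjoint hdisj, h1c, h2c]; omega
    · rw [hinter, h1c]
  · intro X _
    simp only
    ext z
    simp only [Finset.mem_union, Finset.mem_inter, Finset.mem_sdiff]
    tauto
  · intro p hp
    simp only [Finset.coe_product, Set.mem_prod, Finset.mem_coe, Finset.mem_powersetCard] at hp
    obtain ⟨⟨h1s, -⟩, h2s, -⟩ := hp
    have hinter : (p.1 ∪ p.2) ∩ Δ = p.1 := by
      ext z
      simp only [Finset.mem_inter, Finset.mem_union]
      constructor
      · rintro ⟨h | h, hzΔ⟩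
        · exact h
        · exact absurd hzΔ (Finset.mem_compl.mp (h2s h))
      · intro h; exact ⟨Or.inl h, h1s h⟩
    have hsdiff : (p.1 ∪ p.2) \ Δ = p.2 := by
      ext z
      simp only [Finset.mem_sdiff, Finset.mem_union]
      constructor
      · rintro ⟨h | h, hzΔ⟩
        · exact absurd (h1s h) hzΔ
        · exact h
      · intro h; exact ⟨Or.inr h, Finset.mem_compl.mp (h2s h)⟩
    simp only
    rw [hinter, hsdiff]

/-- (CDC2) double counting of the pairs (`t`-set of type `j`, block through it) -/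
theorem stSys_count_eq {t m : ℕ} {Δ : Finset Ω} (S : StSys Ω t 2 Δ)
    (hn : Fintype.card Ω = 2 * m + 1) (hΔ : Δ.card = m + 1) (j : ℕ) (hj : j ≤ t) :
    (t + 1 - j) * S.B j + (j + 1) * S.B (j + 1) = (m + 1).choose j * m.choose (t - j) := by
  classical
  set P : Finset (Finset Ω) :=
    (Finset.univ.powersetCard t).filter (fun X : Finset Ω => (X ∩ Δ).card = j) with hP
  have hΔc : Δᶜ.card = m := by rw [Finset.card_compl, hn, hΔ]; omega
  have hA : P.card = (m + 1).choose j * m.choose (t - j) := by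
    rw [hP, card_powersetCard_inter Δ t j hj, hΔ, hΔc]
  have hmaps : ∀ X ∈ P, S.Q X ∈ S.blocks := by
    intro X hX
    have hX' := (Finset.mem_filter.mp hX).1
    exact Finset.mem_image_of_mem _ hX'
  have hB := Finset.card_eq_sum_card_fiberwise hmaps
  have hfib : ∀ Q ∈ S.blocks, (P.filter (fun X => S.Q X = Q)).card =
      if (Q ∩ Δ).card = j then t + 1 - j else if (Q ∩ Δ).card = j + 1 then j + 1 else 0 := by
    intro Q hQ
    obtain ⟨X0, hX0, rfl⟩ := Finset.mem_image.mp hQ
    have hX0t : X0.card = t := (Finset.mem_powersetCard.mp hX0).2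
    have hQc : (S.Q X0).card = t + 1 := by have := S.card X0 hX0t; omega
    rw [← card_filter_powersetCard_inter (S.Q X0) Δ t j hQc]
    congr 1
    ext X
    simp only [hP, Finset.mem_filter, Finset.mem_powersetCard, Finset.subset_univ, true_and]
    constructor
    · rintro ⟨⟨hXt, hXj⟩, hQX⟩
      exact ⟨⟨hQX ▸ S.sub X hXt, hXt⟩, hXj⟩
    · rintro ⟨⟨hXQ, hXt⟩, hXj⟩
      exact ⟨⟨hXt, hXj⟩, S.eq X0 X hX0t hXt hXQ⟩
  rw [← hA, hB, Finset.sum_congr rfl hfib]
  have hsplit : ∀ Q ∈ S.blocks,
      (if (Q ∩ Δ).card = j then t + 1 - j else if (Q ∩ Δ).card = j + 1 then j + 1 else 0) =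
        (t + 1 - j) * (if (Q ∩ Δ).card = j then 1 else 0) +
          (j + 1) * (if (Q ∩ Δ).card = j + 1 then 1 else 0) := by
    intro Q _
    by_cases h1 : (Q ∩ Δ).card = j
    · have h2 : ¬ (Q ∩ Δ).card = j + 1 := by omega
      simp [h1]
    · by_cases h2 : (Q ∩ Δ).card = j + 1
      · simp [h2]
      · simp [h1, h2]
  rw [Finset.sum_congr rfl hsplit, Finset.sum_add_distrib, ← Finset.mul_sum, ← Finset.mul_sum,
    Finset.sum_boole, Finset.sum_boole]
  simp only [StSys.B, Nat.cast_id]

end comb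

end Cfsg.Agent.Helper52.Marg
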