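import Mathlib

set_option autoImplicit false

namespace Cfsg.Agent.Helper52.Marg

/-- (CTel) telescoping with the weights `(-1)^j j! (t-j)!`. -/
theorem telescope (t : ℕ) (f R : ℕ → ℤ) (hf : f t = 0)
    (h : ∀ j, j < t → ((t : ℤ) + 1 - j) * f j + ((j : ℤ) + 1) * f (j + 1) = R j) :
    ((t + 1).factorial : ℤ) * f 0 =
      ∑ j ∈ Finset.range t, (-1) ^ j * (j.factorial : ℤ) * ((t - j).factorial : ℤ) * R j := by
  set u : ℕ → ℤ := fun j => (-1) ^ j * (j.factorial : ℤ) * ((t + 1 - j).factorial : ℤ) * f j with hu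
  have key : ∀ j ∈ Finset.range t,
      (-1 : ℤ) ^ j * (j.factorial : ℤ) * ((t - j).factorial : ℤ) * R j = u j - u (j + 1) := by
    intro j hj
    have hjt : j < t := Finset.mem_range.mp hj
    have h1 : t + 1 - j = (t - j) + 1 := by omega
    have h2 : t + 1 - (j + 1) = t - j := by omega
    have hfac : ((t + 1 - j).factorial : ℤ) = ((t : ℤ) + 1 - j) * ((t - j).factorial : ℤ) := by
      rw [h1, Nat.factorial_succ]
      push_cast [Nat.cast_sub hjt.le]
      ring
    have hfac2 : ((j + 1).factorial : ℤ) = ((j : ℤ) + 1) * (j.factorial : ℤ) := by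
      rw [Nat.factorial_succ]; push_cast; ring
    simp only [hu]
    rw [h2, hfac, hfac2, ← h j hjt, pow_succ]
    ring
  rw [Finset.sum_congr rfl key, Finset.sum_range_sub']
  simp only [hu]
  simp [hf]

end Cfsg.Agent.Helper52.Marg
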